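import Cfsg.Agent.H362.CV.MmAll

/-! S3442: the own characteristic of `Ω_{2m+1}(q)`, `q` odd. -/

set_option autoImplicit false

namespace Cfsg.Agent.H373.CV

open Cfsg Matrix Cfsg.Agent.H416.CV Cfsg.Agent.H975.CVB Cfsg.Agent.LieClassical.OrthCore
  Cfsg.Agent.LieClassical.OrthForms Cfsg.Agent.LieClassical.OmegaReindex

universe u

theorem odd_own (F : Type) [Field F] [Fintype F] (p : ℕ) [hpf : Fact p.Prime] [CharP F p] (m : ℕ) (hp2 : p ≠ 2) (hm : 3 ≤ m) :
    Hit.{u, 0} p (POmega F (quadFormOdd m F)) := by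
  have hp : p.Prime := hpf.out
  have h2 : (2 : F) ≠ 0 := by
    intro h
    have h1 : ((2 : ℕ) : F) = 0 := by exact_mod_cast h
    rw [CharP.cast_eq_zero_iff F p] at h1
    exact hp2 ((Nat.prime_dvd_prime_iff_eq hp Nat.prime_two).1 h1)
  have hodd : Odd (Fintype.card F) := by
    obtain ⟨k, -, hk⟩ := FiniteField.card F p
    rw [hk]
    exact (hp.odd_of_ne_two hp2).pow
  obtain ⟨N, M, hNM, hpM, hdiag, hbig⟩ := Cfsg.Agent.H362.CV.mm_all F p hp2 m hm
  refine hit_of F p m hp2 hm (Cfsg.Agent.H992.BB.fixRow F p m hp2 (by omega)) ⟨N, M, hNM, hpM, hdiag, fun g hg => ?_⟩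
  obtain ⟨B, hB, hBt, hBg⟩ := exists_gram_odd (m := m) h2
  rw [← Subgroup.orderOf_coe g] at hg ⊢
  have hc : Fintype.card (OIx m) = 2 * m + 1 := by
    simp [Fintype.card_sum]
    ring
  exact no_odd hB (hBg g) (m := m) hc.le (cen_of_big (p := p) hodd hB (hBg g) (hc.le.trans (Nat.le_succ _)) (hbig.mono hg))

end Cfsg.Agent.H373.CV
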