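import Cfsg.Agent.H373.CV.Glue
import Cfsg.Agent.H357.CV.Cross
import Cfsg.Agent.H72.CVA.Main
import Cfsg.Agent.H128.CV.PslMain
import Cfsg.Agent.H128.CV.PsuFour
import Cfsg.Agent.H360.CV.Psl
import Cfsg.Agent.H803.CV.PslThree
import Cfsg.Agent.H803.CV.SpFourOdd
import Cfsg.Agent.H467.CV.U42
import Cfsg.Agent.H548.CV.SpFour
import Cfsg.Agent.H548.CV.SpEight
import Cfsg.Agent.H272.CV.TwoSp
import Cfsg.Agent.H238.CV.Psp
import Cfsg.Agent.H367.CV.PsuOdd
import Cfsg.Agent.H813.CV.X2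
import Cfsg.Agent.H72.CVU.Row
import Cfsg.Agent.H381.CV.RowX4
import Cfsg.Agent.H559.CV.Minus
import Cfsg.Agent.H375.CV.X14
import Cfsg.Agent.H434.CV.PSUEight
import Cfsg.Agent.H44.Cov.Main
import Cfsg.Agent.H379.CV.Fin
import Cfsg.Agent.H362.CV.Dn
import Cfsg.Agent.H396.CV.AltHit
import Cfsg.Agent.H365.CV.X7Two
import Cfsg.Agent.H407.CV.SpOdd
import Cfsg.Agent.H992.BB.Omega
import Cfsg.Agent.H377.CV.X15Fin
import Cfsg.Agent.H381.CV.RowX5
import Cfsg.Agent.H361.CV.M9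
import Cfsg.Agent.H356.TU.Sgn
import Cfsg.Agent.H373.CV.OddOwn
import Cfsg.Agent.H238.CV.PspOwn
import Cfsg.Agent.H128.CV.PsuPlug
import Cfsg.Agent.H72.CVP.Plug
import Cfsg.Agent.H379.CV.Row
import Cfsg.Agent.H548.CV.OrTen
import Cfsg.Agent.H366.CV.X11
import Cfsg.Agent.H149.CV.PlusOdd
import Cfsg.Agent.H813.CV.X4q

/-! S3442: the hit rows of the classical groups. -/

set_option autoImplicit false
set_option linter.unusedVariables false

namespace Cfsg.Agent.H373.CV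

open Cfsg Cfsg.Agent.H357.CV

universe u

theorem psl_own (F : Type) [Field F] [Fintype F] (p : ℕ) [Fact p.Prime] [CharP F p] (n : ℕ) (hn : 3 ≤ n)
    (_ : n = 3 → p ≠ 2) (h4 : n = 4 → 5 ≤ p) (hF : Fintype.card F ≠ 2) :
    Hit.{u, 0} p (Matrix.ProjectiveSpecialLinearGroup (Fin n) F) := by
  by_cases h : n = 4
  · subst h
    exact Cfsg.Agent.H128.CV.hit_psl4 F p (h4 rfl)
  · exact Cfsg.Agent.H72.CVA.psl_own F p n (by omega) hF

theorem psp4e (F : Type) [Field F] [Fintype F] [CharP F 2] (hF : 2 < Fintype.card F) (r : ℕ) (hr : r.Prime) :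
    Hit.{u, 0} r (PSp 2 F) := by
  by_cases h : r = 2
  · subst h; exact Cfsg.Agent.H272.CV.hit_psp2_two hF
  · exact Cfsg.Agent.H548.CV.hit_psp2 hF hr h

theorem psp8e (F : Type) [Field F] [Fintype F] [CharP F 2] (r : ℕ) (hr : r.Prime) : Hit.{u, 0} r (PSp 4 F) := by
  by_cases h : r = 2
  · subst h; exact Cfsg.Agent.H272.CV.hit_psp4_two
  · exact Cfsg.Agent.H548.CV.hit_psp4 hr h

theorem x1 (F : Type) [Field F] [Fintype F] (n : ℕ) (hn : 4 ≤ n) (hF : Fintype.card F ≠ 2)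
    (r : ℕ) (hr : r.Prime) (hrF : ¬ r ∣ Fintype.card F) : Hit.{u, 0} r (Matrix.ProjectiveSpecialLinearGroup (Fin n) F) :=
  Cfsg.Agent.H360.CV.hit_psl' hn (Or.inl (by have := Fintype.one_lt_card (α := F); omega)) hr hrF

theorem x4 (F : Type) [Field F] [Fintype F] (n q : ℕ) (hF : Fintype.card F = q ^ 2) (hn : 7 ≤ n) (ho : Odd n)
    (r : ℕ) (hr : r.Prime) (hrq : r ∣ q + 1) (h3 : r = 3 → 3 ∣ n) : Hit.{u, 0} r (PSU n F q) := by
  obtain ⟨p, k, hp, hc, hk, hFk⟩ := exists_char F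
  obtain ⟨j, hj⟩ := q_pow hp.1 hFk hF
  have hj0 : j ≠ 0 := by
    rintro rfl
    rw [hj, pow_zero, one_pow, hFk] at hF
    exact absurd hF (Nat.one_lt_pow hk.ne' hp.1.one_lt).ne'
  refine Cfsg.Agent.H381.CV.hit_psu_x4 (p := p) hF hn ho hr ?_ hrq ?_
  · rintro rfl
    have h1 : r ∣ q := by rw [hj]; exact dvd_pow_self r hj0
    have h2 := (Nat.dvd_add_right h1).1 hrq
    exact hr.one_lt.ne' (Nat.dvd_one.1 h2)
  · by_cases h : r = 3
    · exact Or.inr (h3 h)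
    · exact Or.inl h

theorem x13 (F : Type) [Field F] [Fintype F] (m : ℕ) (ho : Odd (Fintype.card F)) (hm : 5 ≤ m) (hmo : Odd m)
    (r : ℕ) (hr : r.Prime) (hrF : ¬ r ∣ Fintype.card F) : Hit.{u, 0} r (POmega F (quadFormPlus m F)) := by
  obtain ⟨p, k, hp, hc, hk, hFk⟩ := exists_char F
  refine Cfsg.Agent.H149.CV.hit_X13 (p := p) ho hmo hm hr ?_
  rintro rfl
  exact hrF (by rw [hFk]; exact dvd_pow_self r hk.ne')

theorem x7 (F : Type) [Field F] [Fintype F] (m : ℕ) (ho : Odd (Fintype.card F)) (hm : 4 ≤ m) (he : Even m)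
    (r : ℕ) (hr : r.Prime) (hrF : ¬ r ∣ Fintype.card F) : Hit.{u, 0} r (PSp m F) := by
  by_cases h2 : r = 2
  · subst h2
    exact Cfsg.Agent.H365.CV.hit_psp_even_two ho hm he
  · refine Cfsg.Agent.H407.CV.hit_psp_odd (by omega) (by omega) ho hr h2 ?_
    obtain ⟨p, k, hp, hc, hk, hFk⟩ := exists_char F
    intro h0
    have h1 := (CharP.cast_eq_zero_iff F p r).1 h0
    have h3 := (Nat.prime_dvd_prime_iff_eq hp.1 hr).1 h1
    subst h3
    exact hrF (by rw [hFk]; exact dvd_pow_self p hk.ne')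

/-- all rows of the cross characteristic -/
theorem xrows : XRows.{u} where
  x1 := x1
  x16 := Cfsg.Agent.H803.CV.x16
  x2 := Cfsg.Agent.H813.CV.x2
  x3 := fun F _ _ n q hF h5 hodd _ r hr hrq hrq1 => Cfsg.Agent.H367.CV.hit_psu_odd hF h5 hodd hr hrq hrq1
  x4 := x4
  x4' := Cfsg.Agent.H813.CV.x4'
  x5 := Cfsg.Agent.H381.CV.x5
  x15 := Cfsg.Agent.H377.CV.X15.x15
  m9 := Cfsg.Agent.H361.CV.m9
  x6 := fun F _ _ m ho h3 hm r hr hrF => Cfsg.Agent.H238.CV.Psp.hit_psp_odd ho h3 hm hr hrF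
  x7 := x7
  x8 := Cfsg.Agent.H803.CV.x8
  x10 := Cfsg.Agent.H548.CV.x10
  x11 := Cfsg.Agent.H366.CV.x11
  x12 := Cfsg.Agent.H559.CV.x12
  x13 := x13
  x14 := Cfsg.Agent.H375.CV.hit_oplus_even

/-- `PSU_n(q)`, own characteristic, from the engine -/
theorem psu_own (hcls : ∀ (F : Type) [Field F] [Fintype F] (p : ℕ) [Fact p.Prime] [CharP F p] (n q f : ℕ),
      Fintype.card F = q ^ 2 → q = p ^ f → 3 ≤ n → Cfsg.Agent.H379.SUD.ClsSU.{u} p n q f F)
    (F : Type) [Field F] [Fintype F] (p : ℕ) [hpf : Fact p.Prime] [CharP F p] (n q : ℕ) (hF : Fintype.card F = q ^ 2)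
    (hn : 3 ≤ n) (h3 : n = 3 → p ≠ 2 ∧ q ≠ 3) (h4 : n = 4 → q % 4 = 1 ∧ p ≠ 3) (_ : n = 5 → p ≠ 2) :
    Hit.{u, 0} p (PSU n F q) := by
  have hp : p.Prime := hpf.out
  obtain ⟨k, -, hk⟩ := FiniteField.card F p
  obtain ⟨f, -, hf⟩ := (Nat.dvd_prime_pow hp).1
    (show q ∣ p ^ (k : ℕ) by rw [← hk, hF, pow_two]; exact Dvd.intro _ rfl)
  have hf0 : f ≠ 0 := by
    rintro rfl
    rw [hf, pow_zero, one_pow, hk] at hF
    exact absurd hF (Nat.one_lt_pow k.pos.ne' hp.one_lt).ne'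
  rcases Nat.even_or_odd n with he | ho
  · by_cases hn4 : n = 4
    · subst hn4
      obtain ⟨h41, hp3⟩ := h4 rfl
      refine Cfsg.Agent.H128.CV.hit_psu4 F p hF h41 ?_ fun f hf => hcls F p 4 q f hF hf (by norm_num)
      have h2 : p ≠ 2 := by
        rintro rfl
        have : 2 ∣ q := by rw [hf]; exact dvd_pow_self 2 hf0
        omega
      have h5 : p ≠ 4 := by rintro rfl; exact absurd hp (by norm_num)
      have := hp.two_le
      omega
    · by_cases h82 : n = 8 ∧ q = 2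
      · obtain ⟨rfl, rfl⟩ := h82
        have h2 : p = 2 := by
          have h1 : p ∣ 2 := by
            have : p ∣ p ^ f := dvd_pow_self p hf0
            rwa [← hf] at this
          exact (Nat.prime_dvd_prime_iff_eq hp Nat.prime_two).1 h1
        subst h2
        exact Cfsg.Agent.H434.CV.hit_psu8 hF
      · have h6 : 6 ≤ n := by
          obtain ⟨c, hc⟩ := he
          omega
        refine Cfsg.Agent.H44.Cov.psu_own_even p hF he h6 h82
          (Cfsg.Agent.H72.CVP.engSU_of (by omega) (hcls F p n q f hF hf hn)) ?_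
        rintro rfl rfl
        exact Cfsg.Agent.H72.CVP.engPSU_of hF (by norm_num) (hcls F q 6 q 1 hF (pow_one q).symm (by norm_num))
  · exact Cfsg.Agent.H379.CV.psu_own_odd_of_cls hcls F p n q hF hn h3 ho

/-- all classical rows -/
theorem hitRows (hf : Frame.{u, 0}) (h62 : ∀ (F : Type) [Field F] [Fintype F], Fintype.card F = 2 → NC.{u, 0} (PSp 3 F))
    (h82 : ∀ (F : Type) [Field F] [Fintype F], Fintype.card F = 2 → NC.{u, 0} (POmega F (quadFormPlus 4 F))) :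
    HitRows.{u} where
  a6 := Cfsg.Agent.H396.CV.nc_a6 hf
  a10 := Cfsg.Agent.H396.CV.nc_a10 hf
  psl29 := Cfsg.Agent.H396.CV.nc_psl29 hf
  psl_own := psl_own
  psl_cross := xrows.psl_cross
  psp43 := fun F _ _ hF r hr => Cfsg.Agent.H467.CV.hit_psp43 hF hr
  psp62 := h62
  psp4e := psp4e
  psp8e := psp8e
  psp_own := fun F _ _ p _ _ m hp2 hm hm3 => Cfsg.Agent.H238.CV.PspOwn.psp_own p m hp2 hm hm3
  psp_cross := xrows.psp_cross
  psu42 := fun F _ _ hF r hr => Cfsg.Agent.H467.CV.hit_psu42 (by rw [hF]; norm_num) hr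
  psu_own := psu_own fun F _ _ p _ _ n q f hF hf hn => Cfsg.Agent.H356.TU.clsSU hF hn hf
  psu_cross := xrows.psu_cross
  odd_own := odd_own
  odd_cross := xrows.odd_cross
  plus82 := h82
  plus_own := Cfsg.Agent.H362.CV.plus_own_all
  plus_cross := xrows.plus_cross
  minus_own := Cfsg.Agent.H362.CV.minus_own_all
  minus_cross := fun F _ _ m a b ho hm hab r hr hrF => xrows.x12 F m a b ho hm hab r hr hrF

end Cfsg.Agent.H373.CV
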