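import Cfsg.Agent.H373.CV.Plug

/-! S3442: `Rows` from the classical rows, the exceptional rows, the sporadic rows and the frame. -/

set_option autoImplicit false

namespace Cfsg.Agent.H373.CV

open Cfsg

universe u v

theorem NC.of_finite {L : Type v} [Group L] (h : Finite L → NC.{u, v} L) : NC.{u, v} L := by
  intro G _ _ K _ hK ⟨e⟩ ho
  exact h (Finite.of_equiv _ e.toEquiv) G K hK ⟨e⟩ ho

theorem NCS.of_finite {L : Type v} [Group L] (h : Finite L → NCS.{u, v} L) : NCS.{u, v} L :=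
  fun hs hc => NC.of_finite fun hf => h hf hs hc

theorem Frame.ncs' (hf : Frame.{u, v}) {L : Type v} [Group L] (h : ∀ r : ℕ, r.Prime → Hit.{u, v} r L) : NCS.{u, v} L :=
  NCS.of_finite fun _ => hf.ncs h

/-- The exceptional rows (`Hit` for all primes, or directly `NCS`). -/
structure ExcRows : Prop where
  g2 : ∀ {L : Type v} [Group L], Lie.IsoChevG2 L → NCS.{u, v} L
  f4 : ∀ {L : Type v} [Group L], Lie.IsoF4 L → NCS.{u, v} L
  e6 : ∀ {L : Type v} [Group L], Lie.IsoChevE6 L → NCS.{u, v} L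
  e7 : ∀ {L : Type v} [Group L], Lie.IsoE7 L → NCS.{u, v} L
  e8 : ∀ {L : Type v} [Group L], Lie.IsoE8 L → NCS.{u, v} L
  te6 : ∀ {L : Type v} [Group L], Lie.Iso2E6 L → NCS.{u, v} L
  td4 : ∀ (K : Type) [Field K] [Fintype K] (q : ℕ), IsPrimePow q → Fintype.card K = q ^ 3 → q ≠ 2 → NCS.{u, 0} (Lie.twistedD4 K q)
  sz : ∀ {L : Type v} [Group L], Lie.IsoSuzuki L → NCS.{u, v} L
  ree : ∀ {L : Type v} [Group L], Lie.IsoRee L → NCS.{u, v} L
  tf4 : ∀ {L : Type v} [Group L], Lie.Iso2F4 L → NCS.{u, v} L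
  tits : ∀ {L : Type v} [Group L], Lie.IsoTits L → NCS.{u, v} L

theorem rows (hK : Known.{u}) (hR : HitRows.{u}) (hf : Frame.{u, 0}) (hE : ExcRows.{u, v})
    (hS : ∀ {L : Type v} [Group L], IsSporadicGroup L → NCS.{u, v} L) : Rows.{u, v} where
  alt := hK.alt_cases hR
  psl := fun F _ _ n hn h4 => hK.psl_cases hR hf F n hn h4
  psp := fun F _ _ m hm h3 => hK.psp_cases hR hf F m hm h3
  psu := fun F _ _ n q hF hn h32 hex h52 => hK.psu_cases hR hf F n q hF hn h32 hex h52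
  odd := fun F _ _ m hm ho => Known.odd_cases hR hf F m hm ho
  plus := fun F _ _ m hm => hK.plus_cases hR hf F m hm
  minus := fun F _ _ m a b hm hab => hK.minus_cases hR hf F m a b hm hab
  g2 := hE.g2
  f4 := hE.f4
  e6 := hE.e6
  e7 := hE.e7
  e8 := hE.e8
  te6 := hE.te6
  td4 := hE.td4
  sz := hE.sz
  ree := hE.ree
  tf4 := hE.tf4
  tits := hE.tits
  spor := hS

end Cfsg.Agent.H373.CV
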